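import Cfsg.Agent.Lib.VanP.Defs

/-! S4848 piece L: pure group-theoretic lemmas. -/

set_option autoImplicit false
set_option linter.style.haveILetI false
namespace Cfsg.Agent.Lib.VanP
universe u
variable {G : Type u} [Group G] [Finite G]

theorem pelt_of_mem_sylow {p : ℕ} [Fact p.Prime] (P : Sylow p G) {x : G} (hx : x ∈ (P : Subgroup G)) :
    ∃ k : ℕ, x ^ (p ^ k) = 1 := by
  obtain ⟨k, hk⟩ := P.isPGroup' ⟨x, hx⟩
  refine ⟨k, ?_⟩
  simpa [Subtype.ext_iff] using hk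

theorem coprime_orderOf_of_mem {p : ℕ} (N : Subgroup G) (hN : (Nat.card N).Coprime p) {y : G} (hy : y ∈ N) :
    (orderOf y).Coprime p := by
  have h : orderOf y ∣ Nat.card N := by
    have := orderOf_dvd_natCard (⟨y, hy⟩ : N)
    simpa [Subgroup.orderOf_mk] using this
  exact Nat.Coprime.coprime_dvd_left h hN

theorem eq_one_of_mem_inf {p : ℕ} [Fact p.Prime] (N : Subgroup G) (hN : (Nat.card N).Coprime p)
    (P : Sylow p G) {y : G} (hy : y ∈ N) (hy' : y ∈ (P : Subgroup G)) : y = 1 := by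
  obtain ⟨k, hk⟩ := pelt_of_mem_sylow P hy'
  have h1 : orderOf y ∣ p ^ k := orderOf_dvd_of_pow_eq_one hk
  have h2 := coprime_orderOf_of_mem N hN hy
  have h3 : (orderOf y).Coprime (p ^ k) := Nat.Coprime.pow_right k h2
  have h4 : orderOf y = 1 := Nat.Coprime.eq_one_of_dvd h3 h1
  exact orderOf_eq_one_iff.mp h4

theorem eq_one_of_pelt_mul {p : ℕ} [Fact p.Prime] {u y : G} (hu : ∃ k : ℕ, u ^ (p ^ k) = 1)
    (hy : (orderOf y).Coprime p) (hc : u * y = y * u) (huy : ∃ k : ℕ, (u * y) ^ (p ^ k) = 1) : y = 1 := by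
  obtain ⟨a, ha⟩ := hu
  obtain ⟨b, hb⟩ := huy
  have hc' : Commute u y := hc
  have h1 : y ^ (p ^ (a + b)) = 1 := by
    have h2 : (u * y) ^ (p ^ (a + b)) = 1 := by
      rw [pow_add, mul_comm, pow_mul, hb, one_pow]
    rw [hc'.mul_pow] at h2
    have h3 : u ^ (p ^ (a + b)) = 1 := by
      rw [pow_add, pow_mul, ha, one_pow]
    rw [h3, one_mul] at h2
    exact h2
  have h4 : orderOf y ∣ p ^ (a + b) := orderOf_dvd_of_pow_eq_one h1
  exact orderOf_eq_one_iff.mp (Nat.Coprime.eq_one_of_dvd (Nat.Coprime.pow_right _ hy) h4)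

theorem centralizes_of_stable {p : ℕ} [Fact p.Prime] (N M : Subgroup G) (hN : (Nat.card N).Coprime p)
    (hMN : M ≤ N) (u : G) (hu : ∃ k : ℕ, u ^ (p ^ k) = 1) (huM : ∀ m ∈ M, u * m = m * u)
    (huN : ∀ n ∈ N, u * n * u⁻¹ * n⁻¹ ∈ M) : ∀ n ∈ N, u * n = n * u := by
  intro n hn
  obtain ⟨k, hk⟩ := hu
  set m : G := u * n * u⁻¹ * n⁻¹ with hm
  have hmM : m ∈ M := huN n hn
  -- `u n u⁻¹ = m n`, and `u^j n u^-j = m^j n`
  have hstep : ∀ j : ℕ, u ^ j * n * (u ^ j)⁻¹ = m ^ j * n := by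
    intro j
    induction j with
    | zero => simp
    | succ j ih =>
      have hum : ∀ j : ℕ, u * m ^ j = m ^ j * u := fun j =>
        huM (m ^ j) (M.pow_mem hmM j)
      calc u ^ (j + 1) * n * (u ^ (j + 1))⁻¹
          = u * (u ^ j * n * (u ^ j)⁻¹) * u⁻¹ := by
            rw [pow_succ']; group
        _ = u * (m ^ j * n) * u⁻¹ := by rw [ih]
        _ = m ^ j * (u * n * u⁻¹) := by
            rw [← mul_assoc u, hum j]; group
        _ = m ^ j * (m * n) := by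
            congr 1; rw [hm]; group
        _ = m ^ (j + 1) * n := by rw [pow_succ]; group
  have h1 := hstep (p ^ k)
  rw [hk] at h1
  have h2 : m ^ (p ^ k) = 1 := by
    have : n = m ^ (p ^ k) * n := by simpa using h1
    exact (mul_eq_right.mp this.symm)
  have h3 : orderOf m ∣ p ^ k := orderOf_dvd_of_pow_eq_one h2
  have h4 : (orderOf m).Coprime p := coprime_orderOf_of_mem N hN (hMN hmM)
  have h5 : m = 1 := orderOf_eq_one_iff.mp (Nat.Coprime.eq_one_of_dvd (Nat.Coprime.pow_right _ h4) h3)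
  have h6 : u * n * u⁻¹ * n⁻¹ = 1 := h5
  have h7 : u * n * u⁻¹ = n := by
    have := mul_inv_eq_one.mp h6
    exact this
  calc u * n = (u * n * u⁻¹) * u := by group
    _ = n * u := by rw [h7]

theorem exists_mul_eq {p : ℕ} [Fact p.Prime] (N : Subgroup G) [N.Normal] (hidx : ∃ k : ℕ, N.index = p ^ k)
    (P : Sylow p G) (g : G) : ∃ n ∈ N, ∃ x ∈ (P : Subgroup G), g = n * x := by
  obtain ⟨k, hk⟩ := hidx
  have hsup : N ⊔ (P : Subgroup G) = ⊤ := by
    have h1 : (N ⊔ (P : Subgroup G)).index ∣ p ^ k := by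
      rw [← hk]; exact Subgroup.index_dvd_of_le le_sup_left
    have h2 : (N ⊔ (P : Subgroup G)).index ∣ (P : Subgroup G).index :=
      Subgroup.index_dvd_of_le le_sup_right
    have h3 : ¬ p ∣ (P : Subgroup G).index := P.not_dvd_index
    have h4 : (N ⊔ (P : Subgroup G)).index = 1 := by
      obtain ⟨j, -, hj⟩ := (Nat.dvd_prime_pow (Fact.out : p.Prime)).mp h1
      rcases j with _ | j
      · simpa using hj
      · exact absurd (hj ▸ h2) (fun h => h3 (dvd_trans (by rw [pow_succ]; exact dvd_mul_left _ _) h))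
    exact Subgroup.index_eq_one.mp h4
  have hg : g ∈ ((N ⊔ (P : Subgroup G) : Subgroup G) : Set G) := by rw [hsup]; trivial
  rw [Subgroup.normal_mul] at hg
  obtain ⟨n, hn, x, hx, rfl⟩ := Set.mem_mul.mp hg
  exact ⟨n, hn, x, hx, rfl⟩

theorem exists_fixed_in_coset {p : ℕ} [Fact p.Prime] (M : Subgroup G) [M.Normal] (hM : (Nat.card M).Coprime p)
    (u n : G) (hu : ∃ k : ℕ, u ^ (p ^ k) = 1) (h : u * n * u⁻¹ * n⁻¹ ∈ M) :
    ∃ m ∈ M, u * (n * m) = (n * m) * u := by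
  classical
  obtain ⟨k, hk⟩ := hu
  have hmem : ∀ m : M, n⁻¹ * (u * (n * (m : G)) * u⁻¹) ∈ M := by
    intro m
    have h1 : n⁻¹ * (u * n * u⁻¹ * n⁻¹) * n⁻¹⁻¹ ∈ M := ‹M.Normal›.conj_mem _ h n⁻¹
    have h2 : u * (m : G) * u⁻¹ ∈ M := ‹M.Normal›.conj_mem _ m.2 u
    have h3 := M.mul_mem h1 h2
    have h4 : n⁻¹ * (u * (n * (m : G)) * u⁻¹) =
        n⁻¹ * (u * n * u⁻¹ * n⁻¹) * n⁻¹⁻¹ * (u * (m : G) * u⁻¹) := by group
    rw [h4]; exact h3
  let f : M → M := fun m => ⟨n⁻¹ * (u * (n * (m : G)) * u⁻¹), hmem m⟩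
  have hfinj : Function.Injective f := by
    intro a b hab
    have h1 : n⁻¹ * (u * (n * (a : G)) * u⁻¹) = n⁻¹ * (u * (n * (b : G)) * u⁻¹) :=
      congrArg Subtype.val hab
    have h2 : (a : G) = b := by
      have h3 := mul_left_cancel h1
      have h4 := mul_right_cancel h3
      have h5 := mul_left_cancel h4
      exact mul_left_cancel h5
    exact Subtype.ext h2
  let σ : Equiv.Perm M := Equiv.ofBijective f ⟨hfinj, Finite.injective_iff_surjective.mp hfinj⟩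
  have hσ : ∀ (j : ℕ) (m : M), (((σ ^ j) m : M) : G) = n⁻¹ * (u ^ j * (n * (m : G)) * (u ^ j)⁻¹) := by
    intro j
    induction j with
    | zero => intro m; simp
    | succ j ih =>
      intro m
      rw [pow_succ', Equiv.Perm.mul_apply]
      have : ((σ ((σ ^ j) m) : M) : G) =
          n⁻¹ * (u * (n * (((σ ^ j) m : M) : G)) * u⁻¹) := rfl
      rw [this, ih m, pow_succ']
      group
  have hσp : σ ^ (p ^ k) = 1 := by
    ext m
    rw [hσ, hk]
    simp
  have hP : IsPGroup p (Subgroup.zpowers σ) := by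
    rintro ⟨g, hg⟩
    obtain ⟨z, rfl⟩ := Subgroup.mem_zpowers_iff.mp hg
    refine ⟨k, ?_⟩
    apply Subtype.ext
    simp only [SubmonoidClass.mk_pow, OneMemClass.coe_one]
    rw [← zpow_natCast, zpow_comm, zpow_natCast, hσp, one_zpow]
  have hcong := hP.card_modEq_card_fixedPoints M
  have hne : Nonempty (MulAction.fixedPoints (Subgroup.zpowers σ) M) := by
    by_contra hemp
    have h0 : Nat.card (MulAction.fixedPoints (Subgroup.zpowers σ) M) = 0 := by
      rw [not_nonempty_iff] at hemp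
      exact Nat.card_of_isEmpty
    rw [h0] at hcong
    have h1 : p ∣ Nat.card M := (Nat.modEq_zero_iff_dvd).mp hcong
    have h2 : p ∣ 1 := by
      have := Nat.dvd_gcd h1 (dvd_refl p)
      rwa [Nat.Coprime.gcd_eq_one hM] at this
    exact (Fact.out : p.Prime).one_lt.ne' (Nat.dvd_one.mp h2)
  obtain ⟨⟨m, hm⟩⟩ := hne
  have h1 : σ m = m := by
    have := hm ⟨σ, Subgroup.mem_zpowers σ⟩
    exact this
  have h2 : n⁻¹ * (u * (n * (m : G)) * u⁻¹) = m := congrArg Subtype.val h1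
  refine ⟨m, m.2, ?_⟩
  have h3 : u * (n * (m : G)) * u⁻¹ = n * m := by
    calc u * (n * (m : G)) * u⁻¹ = n * (n⁻¹ * (u * (n * (m : G)) * u⁻¹)) := by group
      _ = n * m := by rw [h2]
  calc u * (n * (m : G)) = (u * (n * (m : G)) * u⁻¹) * u := by group
    _ = (n * m) * u := by rw [h3]

/-- A nontrivial normal subgroup contains a minimal normal subgroup of `G`. -/
theorem exists_minNormal_le (N : Subgroup G) [N.Normal] (hN : N ≠ ⊥) : ∃ M : Subgroup G, IsMinNormal M ∧ M ≤ N := by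
  classical
  have hwf : WellFoundedLT (Subgroup G) := Finite.to_wellFoundedLT
  obtain ⟨M, hM, hmin⟩ := hwf.wf.has_min {L : Subgroup G | L.Normal ∧ L ≠ ⊥ ∧ L ≤ N}
    ⟨N, ‹N.Normal›, hN, le_rfl⟩
  refine ⟨M, ⟨hM.1, hM.2.1, ?_⟩, hM.2.2⟩
  intro L hL hLM
  by_cases hb : L = ⊥
  · exact Or.inl hb
  · right
    by_contra hne
    exact hmin L ⟨hL, hb, hLM.trans hM.2.2⟩ (lt_of_le_of_ne hLM hne)

end Cfsg.Agent.Lib.VanP
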