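import Mathlib
import Cfsg.Prelude.Def_Blocks
import Cfsg.Prelude.Def_Solvable

/-! Definitions for S4848: groups all of whose vanishing elements are `p`-elements. -/

set_option autoImplicit false

namespace Cfsg.Agent.Lib.VanP

universe u

/-- Every vanishing element has order a positive power of `p`. -/
def HV (p : ℕ) (G : Type u) [Group G] : Prop :=
  ∀ g : G, (∃ χ : Cfsg.IrrCharacter G, (χ : G → ℂ) g = 0) → ∃ m : ℕ, 1 ≤ m ∧ orderOf g = p ^ m

/-- `u` fixes the function `θ` on the subgroup `M` under conjugation. -/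
def Fixes {G : Type u} [Group G] (M : Subgroup G) (θ : M → ℂ) (u : G) : Prop :=
  ∀ a b : M, (b : G) = u * a * u⁻¹ → θ b = θ a

/-- A minimal normal subgroup. -/
structure IsMinNormal {G : Type u} [Group G] (M : Subgroup G) : Prop where
  normal : M.Normal
  ne_bot : M ≠ ⊥
  min : ∀ L : Subgroup G, L.Normal → L ≤ M → L = ⊥ ∨ L = M

/-- The conclusion of the main induction of S4848, for a normal `p`-complement `N`
and a Sylow `p`-subgroup `P`. -/
structure Concl {G : Type u} [Group G] (N P : Subgroup G) : Prop where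
  central : ∀ z ∈ P, (∀ y ∈ N, z * y = y * z) → ∀ g : G, z * g = g * z
  moved : ∃ x ∈ P, ∃ y ∈ N, x * y ≠ y * x
  fpf : ∀ x ∈ P, (∃ y ∈ N, x * y ≠ y * x) → ∀ y ∈ N, x * y = y * x → y = 1

/-- The statement proved by induction. -/
def TT (p : ℕ) (G : Type u) [Group G] : Prop :=
  ∀ (N : Subgroup G) (P : Sylow p G), N.Normal → (Nat.card N).Coprime p →
    (∃ k : ℕ, N.index = p ^ k) → N ≠ ⊥ → Concl N (P : Subgroup G)

end Cfsg.Agent.Lib.VanP
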