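import Cfsg.Agent.Lib.VanP.Defs
import Cfsg.Agent.Lib.Basic.PCore

/-! S4848 piece FR: from the conclusion of the induction to the statement's conclusion. -/

set_option autoImplicit false
namespace Cfsg.Agent.Lib.VanP
universe u
variable {G : Type u} [Group G] [Finite G]

open scoped Pointwise

namespace FinalAux

theorem eq_one_of_mem_inf' {p : ℕ} [Fact p.Prime] (N : Subgroup G) (hN : (Nat.card N).Coprime p)
    (P : Sylow p G) {y : G} (hy : y ∈ N) (hy' : y ∈ (P : Subgroup G)) : y = 1 := by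
  obtain ⟨k, hk⟩ := P.isPGroup' ⟨y, hy'⟩
  have h1 : y ^ (p ^ k) = 1 := by
    have := congrArg Subtype.val hk
    simpa using this
  have h2 : orderOf y ∣ p ^ k := orderOf_dvd_of_pow_eq_one h1
  have h3 : orderOf y ∣ Nat.card N := Subgroup.orderOf_dvd_natCard N hy
  have h4 : Nat.Coprime (Nat.card N) (p ^ k) := hN.pow_right k
  have h5 : orderOf y ∣ 1 := by
    have := Nat.dvd_gcd h3 h2
    rwa [h4] at this
  exact orderOf_eq_one_iff.mp (Nat.dvd_one.mp h5)

theorem exists_mul_eq' {p : ℕ} [Fact p.Prime] (N : Subgroup G) [N.Normal]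
    (hNc : (Nat.card N).Coprime p) (hidx : ∃ k : ℕ, N.index = p ^ k)
    (P : Sylow p G) (g : G) : ∃ n ∈ N, ∃ x ∈ (P : Subgroup G), g = n * x := by
  obtain ⟨k, hk⟩ := hidx
  have hp : p.Prime := Fact.out
  have hcardG : Nat.card N * p ^ k = Nat.card G := by
    rw [← hk]; exact Subgroup.card_mul_index N
  obtain ⟨a, ha⟩ := IsPGroup.iff_card.mp P.isPGroup'
  have hP2 : Nat.card (P : Subgroup G) * (P : Subgroup G).index = Nat.card G :=
    Subgroup.card_mul_index _
  have hnd : ¬ p ∣ (P : Subgroup G).index := P.not_dvd_index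
  have h1 : p ^ a ∣ p ^ k := by
    have h : p ^ a ∣ Nat.card N * p ^ k := by
      rw [hcardG, ← hP2, ha]; exact dvd_mul_right _ _
    exact (Nat.Coprime.pow_left a hNc.symm).dvd_of_dvd_mul_left h
  have h2 : p ^ k ∣ p ^ a := by
    have h : p ^ k ∣ p ^ a * (P : Subgroup G).index := by
      rw [← ha, hP2, ← hcardG]; exact dvd_mul_left _ _
    exact (Nat.Coprime.pow_left k ((Nat.Prime.coprime_iff_not_dvd hp).mpr hnd)).dvd_of_dvd_mul_right h
  have hak : p ^ a = p ^ k := Nat.dvd_antisymm h1 h2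
  have hcompl : Subgroup.IsComplement' N (P : Subgroup G) := by
    apply Subgroup.isComplement'_of_coprime
    · rw [ha, hak, hcardG]
    · rw [ha]; exact hNc.pow_right a
  obtain ⟨⟨⟨n, hn⟩, ⟨x, hx⟩⟩, hnx, -⟩ := hcompl.existsUnique g
  exact ⟨n, hn, x, hx, hnx.symm⟩

end FinalAux

open FinalAux in
theorem final_of_concl {p : ℕ} [Fact p.Prime] (N : Subgroup G) (P : Sylow p G) [N.Normal]
    (hNc : (Nat.card N).Coprime p) (hNi : ∃ k : ℕ, N.index = p ^ k) (hNb : N ≠ ⊥)
    (hc : Concl N (P : Subgroup G)) :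
    Subgroup.center G = Cfsg.pCore p G ∧ ∃ H : Subgroup (G ⧸ Subgroup.center G),
      Cfsg.IsFrobeniusComplement H ∧ IsPGroup p H := by
  obtain ⟨x₀, hx₀, y₀, hy₀, hne₀⟩ := hc.moved
  -- the centre is a p-group
  have hZp : IsPGroup p (Subgroup.center G) := by
    rintro ⟨z, hz⟩
    obtain ⟨k, hk⟩ := hNi
    have hzN : z ^ (p ^ k) ∈ N := by
      rw [← hk]; exact Subgroup.pow_index_mem N z
    have hcomm : x₀ * z ^ (p ^ k) = z ^ (p ^ k) * x₀ := by
      have : Commute x₀ z := (Subgroup.mem_center_iff.mp hz) x₀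
      exact (this.pow_right _).eq
    have h1 := hc.fpf x₀ hx₀ ⟨y₀, hy₀, hne₀⟩ _ hzN hcomm
    exact ⟨k, Subtype.ext (by simpa using h1)⟩
  have hZO : Subgroup.center G ≤ Cfsg.pCore p G :=
    Cfsg.Agent.Lib.Basic.PCore.le_pCore inferInstance hZp
  have hOP : Cfsg.pCore p G ≤ (P : Subgroup G) := Cfsg.Agent.Lib.Basic.PCore.pCore_le_sylow P
  have hOn : (Cfsg.pCore p G).Normal := Cfsg.Agent.Lib.Basic.PCore.pCore_normal p G
  have hZ : Subgroup.center G = Cfsg.pCore p G := by
    refine le_antisymm hZO ?_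
    intro z hz
    have hzP : z ∈ (P : Subgroup G) := hOP hz
    have hcN : ∀ y ∈ N, z * y = y * z := by
      intro y hy
      have h1 : z * y * z⁻¹ * y⁻¹ ∈ N :=
        N.mul_mem (‹N.Normal›.conj_mem y hy z) (N.inv_mem hy)
      have h2 : z * y * z⁻¹ * y⁻¹ ∈ Cfsg.pCore p G := by
        have h3 : y * z⁻¹ * y⁻¹ ∈ Cfsg.pCore p G := hOn.conj_mem _ (Subgroup.inv_mem _ hz) y
        have h4 : z * y * z⁻¹ * y⁻¹ = z * (y * z⁻¹ * y⁻¹) := by group
        rw [h4]
        exact Subgroup.mul_mem _ hz h3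
      have h5 := eq_one_of_mem_inf' N hNc P h1 (hOP h2)
      have h6 : z * y = (z * y * z⁻¹ * y⁻¹) * (y * z) := by group
      rw [h6, h5, one_mul]
    have h := hc.central z hzP hcN
    rw [Subgroup.mem_center_iff]
    intro g
    exact (h g).symm
  have hZP : Subgroup.center G ≤ (P : Subgroup G) := hZO.trans hOP
  refine ⟨hZ, (P : Subgroup G).map (QuotientGroup.mk' (Subgroup.center G)), ⟨?_, ?_, ?_⟩, P.isPGroup'.map _⟩
  · -- nontrivial
    intro hbot
    have h1 : (x₀ : G ⧸ Subgroup.center G) ∈ (P : Subgroup G).map (QuotientGroup.mk' (Subgroup.center G)) :=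
      ⟨x₀, hx₀, rfl⟩
    rw [hbot, Subgroup.mem_bot] at h1
    have h2 : x₀ ∈ Subgroup.center G := (QuotientGroup.eq_one_iff x₀).mp h1
    exact hne₀ ((Subgroup.mem_center_iff.mp h2) y₀).symm
  · -- proper
    intro htop
    obtain ⟨n, hn, hn1⟩ := (Subgroup.bot_or_exists_ne_one N).resolve_left hNb
    have h1 : (n : G ⧸ Subgroup.center G) ∈ (P : Subgroup G).map (QuotientGroup.mk' (Subgroup.center G)) := by
      rw [htop]; exact Subgroup.mem_top _
    obtain ⟨x, hx, hxn⟩ := h1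
    have h2 : x⁻¹ * n ∈ Subgroup.center G := QuotientGroup.eq.mp hxn
    have h3 : n ∈ (P : Subgroup G) := by
      have h4 : n = x * (x⁻¹ * n) := by group
      rw [h4]
      exact Subgroup.mul_mem _ hx (hZP h2)
    exact hn1 (eq_one_of_mem_inf' N hNc P hn h3)
  · -- malnormal
    intro g hg
    obtain ⟨g', rfl⟩ := QuotientGroup.mk_surjective g
    obtain ⟨n, hn, x₁, hx₁, rfl⟩ := exists_mul_eq' N hNc hNi P g'
    have hn1 : n ≠ 1 := by
      rintro rfl
      apply hg
      exact ⟨x₁, hx₁, by simp⟩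
    rw [eq_bot_iff]
    rintro yb ⟨hy1, hy2⟩
    obtain ⟨y, hy, rfl⟩ := hy1
    obtain ⟨w, ⟨y', hy', rfl⟩, hw⟩ := Subgroup.mem_smul_pointwise_iff_exists _ _ _ |>.mp hy2
    -- conjugation identity in the quotient
    have hw' : (((n * x₁) * y' * (n * x₁)⁻¹ : G) : G ⧸ Subgroup.center G) = (y : G ⧸ Subgroup.center G) := by
      exact hw
    have hz : y⁻¹ * ((n * x₁) * y' * (n * x₁)⁻¹) ∈ Subgroup.center G :=
      QuotientGroup.eq.mp hw'.symm
    set z := y⁻¹ * ((n * x₁) * y' * (n * x₁)⁻¹) with hzdef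
    set y'' := x₁ * y' * x₁⁻¹ with hy''def
    have hy''P : y'' ∈ (P : Subgroup G) :=
      Subgroup.mul_mem _ (Subgroup.mul_mem _ hx₁ hy') (Subgroup.inv_mem _ hx₁)
    have hconj : n * y'' * n⁻¹ = y * z := by
      rw [hzdef, hy''def]; group
    have hyzP : y * z ∈ (P : Subgroup G) := Subgroup.mul_mem _ hy (hZP hz)
    have hcN : n * y'' * n⁻¹ * y''⁻¹ ∈ N := by
      have h4 : n * y'' * n⁻¹ * y''⁻¹ = n * (y'' * n⁻¹ * y''⁻¹) := by group
      rw [h4]
      exact N.mul_mem hn (‹N.Normal›.conj_mem _ (N.inv_mem hn) y'')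
    have hcP : n * y'' * n⁻¹ * y''⁻¹ ∈ (P : Subgroup G) := by
      rw [hconj]
      exact Subgroup.mul_mem _ hyzP (Subgroup.inv_mem _ hy''P)
    have hc1 := eq_one_of_mem_inf' N hNc P hcN hcP
    have hcomm : y'' * n = n * y'' := by
      have h6 : n * y'' = (n * y'' * n⁻¹ * y''⁻¹) * (y'' * n) := by group
      rw [h6, hc1, one_mul]
    have hyy : y'' = y * z := by
      rw [← hconj]
      have : n * y'' * n⁻¹ = y'' * n * n⁻¹ := by rw [hcomm]
      rw [this]; group
    -- y'' central, else n would be trivial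
    have hcent : y'' ∈ Subgroup.center G := by
      by_contra hnc
      have hex : ∃ y₁ ∈ N, y'' * y₁ ≠ y₁ * y'' := by
        by_contra hall
        push Not at hall
        apply hnc
        rw [Subgroup.mem_center_iff]
        intro g
        exact (hc.central y'' hy''P hall g).symm
      exact hn1 (hc.fpf y'' hy''P hex n hn hcomm)
    have hycent : y ∈ Subgroup.center G := by
      have h7 : y = y'' * z⁻¹ := by rw [hyy]; group
      rw [h7]
      exact Subgroup.mul_mem _ hcent (Subgroup.inv_mem _ hz)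
    rw [Subgroup.mem_bot]
    exact (QuotientGroup.eq_one_iff y).mpr hycent

end Cfsg.Agent.Lib.VanP
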