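import Mathlib
import Cfsg.Agent.Lib.VanP.Defs
import Cfsg.Agent.Lib.Char.Basic
import Cfsg.Agent.Lib.Char.Ortho

/-! Piece Q of S4848: passing to quotients. -/

set_option autoImplicit false

namespace Cfsg.Agent.Lib.VanP

universe u
variable {G : Type u} [Group G]

theorem inflate_zero (M : Subgroup G) [M.Normal] (g : G)
    (h : ∃ χ : Cfsg.IrrCharacter (G ⧸ M), (χ : G ⧸ M → ℂ) (g : G ⧸ M) = 0) :
    ∃ χ : Cfsg.IrrCharacter G, (χ : G → ℂ) g = 0 := by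
  obtain ⟨χ, hχ⟩ := h
  exact ⟨⟨fun x => (χ : G ⧸ M → ℂ) (QuotientGroup.mk' M x),
    Cfsg.Agent.Lib.Char.Basic.isIrrCharacter_comp_surjective χ.2 (QuotientGroup.mk' M)
      (QuotientGroup.mk'_surjective M)⟩, hχ⟩

theorem hv_quotient [Finite G] {p : ℕ} [Fact p.Prime] (hv : HV p G) (M : Subgroup G) [M.Normal] :
    HV p (G ⧸ M) := by
  intro x hx
  obtain ⟨g, rfl⟩ := QuotientGroup.mk'_surjective M x
  obtain ⟨χ, hχ⟩ := hx
  obtain ⟨m, -, hm⟩ := hv g (inflate_zero M g ⟨χ, hχ⟩)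
  have hdvd : orderOf (QuotientGroup.mk' M g) ∣ p ^ m := by
    rw [← hm]
    exact orderOf_map_dvd _ _
  obtain ⟨k, -, hk⟩ := (Nat.dvd_prime_pow (Fact.out : p.Prime)).1 hdvd
  refine ⟨k, ?_, hk⟩
  by_contra hk0
  have hk1 : k = 0 := by omega
  rw [hk1, pow_zero, orderOf_eq_one_iff] at hk
  rw [hk] at hχ
  exact Cfsg.Agent.Lib.Char.Ortho.irr_apply_one_ne_zero χ.2 hχ

end Cfsg.Agent.Lib.VanP
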